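import Cfsg.Agent.H781.TW.Def
import Cfsg.Agent.H781.TW.Mul
import Cfsg.Agent.H140.TC.Cop

/-!
# S2452, `Ω_(2n+1)(q)`, `q` odd, `n` even (helper781): the engine when `1` is a simple eigenvalue of `X`
-/

set_option autoImplicit false
set_option linter.unusedSectionVars false

namespace Cfsg.Agent.H781.TW

open Module QuadraticMap Matrix Polynomial Cfsg.Agent.LieClassical.OrthCore Cfsg.Agent.LieClassical.OrthTrans
  Cfsg.Agent.LieClassical.OrthFinite Cfsg.Agent.H140.OreO Cfsg.Agent.H126.PwO Cfsg.Agent.H962.PP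
open Cfsg.Agent.H434.Corn (MaxTS)
open Cfsg.Agent.H140.TC

variable {F V : Type*} [Field F] [AddCommGroup V] [Module F V] {n : ℕ} {Q : QuadraticForm F V}

/-- the elements of `U⁻` whose middle component vanishes at `m` -/
def UmFix (n : ℕ) (Q : QuadraticForm F V) (m : Fin n → F) : Subgroup (M F V n ≃ₗ[F] M F V n) where
  carrier := {u | u ∈ Um n Q ∧ (u (m, 0, 0)).2.1 = 0}
  one_mem' := ⟨(Um n Q).one_mem, rfl⟩
  mul_mem' {a b} ha hb := by
    refine ⟨(Um n Q).mul_mem ha.1 hb.1, ?_⟩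
    show (a (b (m, 0, 0))).2.1 = 0
    have h1 : b (m, 0, 0) = (m, 0, 0) + (0, 0, (b (m, 0, 0)).2.2) := by
      refine Prod.ext ?_ (Prod.ext ?_ ?_)
      · rw [hb.1.2.1]; simp
      · rw [hb.2]; simp
      · simp
    rw [h1, map_add, ha.1.2.2.2 (0, 0, _) rfl rfl]
    show (a (m, 0, 0)).2.1 + 0 = 0
    rw [ha.2, add_zero]
  inv_mem' {a} ha := by
    refine ⟨(Um n Q).inv_mem ha.1, ?_⟩
    show (a⁻¹ (m, 0, 0)).2.1 = 0
    have h1 : a (m, 0, 0) = (m, 0, 0) + (0, 0, (a (m, 0, 0)).2.2) := by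
      refine Prod.ext ?_ (Prod.ext ?_ ?_)
      · rw [ha.1.2.1]; simp
      · rw [ha.2]; simp
      · simp
    have h2 : a⁻¹ (a (m, 0, 0)) = (m, 0, 0) := LinearEquiv.symm_apply_apply a _
    rw [h1, map_add, ((Um n Q).inv_mem ha.1).2.2.2 (0, 0, _) rfl rfl] at h2
    have h3 := congrArg (fun x : M F V n => x.2.1) h2
    simpa using h3

theorem fix_um {X : GL (Fin n) F} {m : Fin n → F}
    (ha : ∀ f : (Fin n → F) →ₗ[F] V, (∀ a, f ((X : Matrix (Fin n) (Fin n) F) *ᵥ a) = f a) → f m = 0 → f = 0)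
    (hc : ∀ f : (Fin n → F) →ₗ[F] (Fin n → F), (∀ a, a ⬝ᵥ f a = 0) →
      (∀ a, f ((X : Matrix (Fin n) (Fin n) F) *ᵥ a) = (ti X : Matrix (Fin n) (Fin n) F) *ᵥ f a) → f = 0)
    {u : M F V n ≃ₗ[F] M F V n} (hu : u ∈ UmFix n Q m) (hcomm : u * lev X 1 = lev X 1 * u) : u = 1 := by
  have hum := hu.2
  replace hu := hu.1
  have hx : ∀ x, u (lev X 1 x) = lev X 1 (u x) := fun x => LinearEquiv.congr_fun hcomm x
  let f1 : (Fin n → F) →ₗ[F] V := LinearMap.fst F V (Fin n → F) ∘ₗ LinearMap.snd F _ _ ∘ₗ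
    (u : M F V n →ₗ[F] M F V n) ∘ₗ LinearMap.inl F (Fin n → F) (V × (Fin n → F))
  let f3 : (Fin n → F) →ₗ[F] (Fin n → F) := LinearMap.snd F V (Fin n → F) ∘ₗ LinearMap.snd F _ _ ∘ₗ
    (u : M F V n →ₗ[F] M F V n) ∘ₗ LinearMap.inl F (Fin n → F) (V × (Fin n → F))
  have e1 : f1 = 0 := by
    apply ha
    · intro a
      have := hx (a, 0, 0)
      rw [lev_apply, lev_apply] at this
      simp only [mulVec_zero, map_zero] at this
      exact congrArg (fun y => y.2.1) this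
    · exact hum
  have e1' : ∀ a, (u (a, 0, 0)).2.1 = 0 := fun a => LinearMap.congr_fun e1 a
  have e2' : ∀ v, (u (0, v, 0)).2.2 = 0 := by
    intro v
    rw [← dotProduct_eq_zero_iff]
    intro a
    have h1 := polar_map hu.1 (0, v, 0) (a, 0, 0)
    rw [polar_MQ, polar_MQ, hu.2.1, hu.2.1, e1'] at h1
    simp only [zero_dotProduct, dotProduct_zero, polar_zero_right, zero_add, add_zero] at h1
    rw [dotProduct_comm]
    exact h1
  have e3 : f3 = 0 := by
    apply hc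
    · intro a
      have h1 := mem_O.1 hu.1 (a, 0, 0)
      rw [MQ_apply, MQ_apply', hu.2.1, e1'] at h1
      show a ⬝ᵥ (u (a, 0, 0)).2.2 = 0
      simpa using h1
    · intro a
      have := hx (a, 0, 0)
      rw [lev_apply, lev_apply] at this
      simp only [mulVec_zero, map_zero] at this
      exact congrArg (fun y => y.2.2) this
  have e3' : ∀ a, (u (a, 0, 0)).2.2 = 0 := fun a => LinearMap.congr_fun e3 a
  apply LinearEquiv.ext
  intro x
  have hd : x = (x.1, 0, 0) + ((0, x.2.1, 0) + (0, 0, x.2.2)) := by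
    refine Prod.ext (by simp) (Prod.ext (by simp) (by simp))
  have h1 : u (x.1, 0, 0) = (x.1, 0, 0) :=
    Prod.ext (hu.2.1 _) (Prod.ext (e1' _) (e3' _))
  have h2 : u (0, x.2.1, 0) = (0, x.2.1, 0) :=
    Prod.ext (hu.2.1 _) (Prod.ext (hu.2.2.1 _ rfl) (e2' _))
  have h3 : u (0, 0, x.2.2) = (0, 0, x.2.2) := hu.2.2.2 _ rfl rfl
  conv_lhs => rw [hd, map_add, map_add, h1, h2, h3, ← hd]
  rfl

section Fin

variable [Finite F] [FiniteDimensional F V]

/-- **`u lev X 1 ~ lev X 1`** -/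
theorem exists_um_fix {X : GL (Fin n) F} {m : Fin n → F} (hm : (X : Matrix (Fin n) (Fin n) F) *ᵥ m = m)
    (ha : ∀ f : (Fin n → F) →ₗ[F] V, (∀ a, f ((X : Matrix (Fin n) (Fin n) F) *ᵥ a) = f a) → f m = 0 → f = 0)
    (hc : ∀ f : (Fin n → F) →ₗ[F] (Fin n → F), (∀ a, a ⬝ᵥ f a = 0) →
      (∀ a, f ((X : Matrix (Fin n) (Fin n) F) *ᵥ a) = (ti X : Matrix (Fin n) (Fin n) F) *ᵥ f a) → f = 0)
    {u : M F V n ≃ₗ[F] M F V n} (hu : u ∈ Um n Q) (hum : (u (m, 0, 0)).2.1 = 0) :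
    ∃ v ∈ O (MQ n Q), u * lev X 1 = v * lev X 1 * v⁻¹ := by
  have := finite_subgroup (UmFix n Q m)
  have hmi : ((X⁻¹ : GL (Fin n) F) : Matrix (Fin n) (Fin n) F) *ᵥ m = m := by
    conv_lhs => rw [← hm]
    exact mulVec_inv_cancel X m
  obtain ⟨v, hv, e⟩ := exists_comm (UmFix n Q m) (lev X 1) (fun w hw => by
    refine ⟨lev_conj_Um (O Q).one_mem hw.1, ?_⟩
    have h1 : (lev X (1 : V ≃ₗ[F] V))⁻¹ (m, 0, 0) = (m, 0, 0) := by
      rw [← lev_inv, lev_apply, hmi]
      simp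
    show (lev X 1 (w ((lev X (1 : V ≃ₗ[F] V))⁻¹ (m, 0, 0)))).2.1 = 0
    rw [h1, lev_apply]
    exact hw.2) (fun w hw => fix_um ha hc hw) ⟨hu, hum⟩
  exact ⟨v, hv.1.1, by rw [e]; group⟩

/-- `1` is a simple eigenvalue -/
theorem fix_cond {X : GL (Fin n) F} {f : F[X]} {m : Fin n → F}
    (hX : (X : Matrix (Fin n) (Fin n) F).charpoly = (Polynomial.X - C 1) * f)
    (hf1 : f.eval 1 ≠ 0) (hf : IsCoprime f f.reverse) (hm : (X : Matrix (Fin n) (Fin n) F) *ᵥ m = m) (hm0 : m ≠ 0) :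
    (∀ f : (Fin n → F) →ₗ[F] V, (∀ a, f ((X : Matrix (Fin n) (Fin n) F) *ᵥ a) = f a) → f m = 0 → f = 0) ∧
    (∀ f : (Fin n → F) →ₗ[F] (Fin n → F), (∀ a, a ⬝ᵥ f a = 0) →
      (∀ a, f ((X : Matrix (Fin n) (Fin n) F) *ᵥ a) = (ti X : Matrix (Fin n) (Fin n) F) *ᵥ f a) → f = 0) := by
  refine ⟨fun φ hφ hφm => ?_, ?_⟩
  · have hE := finrank_eig_eps hX hf1
    obtain ⟨e, he⟩ := finrank_le_one_iff.1 hE
    have hmE : m ∈ Module.End.eigenspace (toLin' (X : Matrix (Fin n) (Fin n) F)) 1 := by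
      rw [Module.End.mem_eigenspace_iff, toLin'_apply, hm, one_smul]
    obtain ⟨c, hc⟩ := he ⟨m, hmE⟩
    have hc' : c • (e : Fin n → F) = m := congrArg Subtype.val hc
    have hc0 : c ≠ 0 := by
      rintro rfl
      rw [zero_smul] at hc'
      exact hm0 hc'.symm
    have heig : ∀ v : Fin n → F, (X : Matrix (Fin n) (Fin n) F) *ᵥ v = v → φ v = 0 := by
      intro v hv
      have hvE : v ∈ Module.End.eigenspace (toLin' (X : Matrix (Fin n) (Fin n) F)) 1 := by
        rw [Module.End.mem_eigenspace_iff, toLin'_apply, hv, one_smul]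
      obtain ⟨d, hd⟩ := he ⟨v, hvE⟩
      have hd' : d • (e : Fin n → F) = v := congrArg Subtype.val hd
      have he0 : φ (e : Fin n → F) = 0 := by
        have h1 : φ (c • (e : Fin n → F)) = 0 := by rw [hc', hφm]
        rw [map_smul] at h1
        exact (smul_eq_zero.1 h1).resolve_left hc0
      rw [← hd', map_smul, he0, smul_zero]
    have hcop : IsCoprime (Polynomial.X - C 1 : F[X]) f := by
      rw [(irreducible_X_sub_C (1 : F)).coprime_iff_not_dvd, dvd_iff_isRoot]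
      exact hf1
    obtain ⟨r, s, hrs⟩ := hcop
    have hA' : aeval (toLin' (X : Matrix (Fin n) (Fin n) F)) ((Polynomial.X - C 1) * f) = 0 := by
      rw [aeval_toLin', ← hX, aeval_self_charpoly, map_zero]
    apply LinearMap.ext
    intro a
    have h4 : a = aeval (toLin' (X : Matrix (Fin n) (Fin n) F)) ((Polynomial.X - C 1) * r) a +
        aeval (toLin' (X : Matrix (Fin n) (Fin n) F)) (s * f) a := by
      have h5 : ((Polynomial.X - C 1) * r + s * f : F[X]) = 1 := by rw [mul_comm _ r]; exact hrs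
      rw [← LinearMap.add_apply, ← map_add, h5, map_one, Module.End.one_apply]
    have h6 : ∀ b, φ (aeval (toLin' (X : Matrix (Fin n) (Fin n) F)) (Polynomial.X - C 1 : F[X]) b) = 0 := by
      intro b
      rw [map_sub, aeval_X, aeval_C, LinearMap.sub_apply, Module.algebraMap_end_apply, map_sub, one_smul,
        toLin'_apply, hφ, sub_self]
    rw [h4, map_add, LinearMap.zero_apply, map_mul (aeval (toLin' (X : Matrix (Fin n) (Fin n) F)))
      (Polynomial.X - C 1), Module.End.mul_apply, h6, zero_add]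
    apply heig
    have h2 : aeval (toLin' (X : Matrix (Fin n) (Fin n) F)) (Polynomial.X - C 1 : F[X])
        (aeval (toLin' (X : Matrix (Fin n) (Fin n) F)) (s * f) a) = 0 := by
      rw [← Module.End.mul_apply, ← map_mul]
      have h3 : (Polynomial.X - C 1) * (s * f) = s * ((Polynomial.X - C 1) * f) := by ring
      rw [h3, map_mul, hA', mul_zero, LinearMap.zero_apply]
    rw [map_sub, aeval_X, aeval_C, LinearMap.sub_apply, Module.algebraMap_end_apply, one_smul, sub_eq_zero,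
      toLin'_apply] at h2
    exact h2
  · exact (cop_of_eps (V := Fin 0 → F) (h := 1) (one_mul 1) hX hf1 hf (isUnit_of_subsingleton _)
      (isUnit_of_subsingleton _) (isUnit_of_subsingleton _)).c

end Fin

end Cfsg.Agent.H781.TW
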